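import Cfsg.Agent.Lib.Grp.SchurM.SubsetAct
import Cfsg.Agent.Lib.Spor.Cos.HSOut.Rep
import Cfsg.Agent.Lib.Spor.Cos.HSMult.SetData

/-! The actions on two families of subsets of the 100 points. -/

set_option autoImplicit false
set_option maxRecDepth 100000
set_option maxHeartbeats 4000000

open Cfsg.Agent.Spor.Cos.HSOut Cfsg.Agent.Grp.SchurM

namespace Cfsg.Agent.Spor.Cos.HSMult

theorem g_out (s : ℕ) (hs : 3 ≤ s) : g s = 1 :=
  pi_injective (by rw [homA.gen, map_one, HSOut.actA.perm_out s hs])

/-- The points of a subset. -/
noncomputable def bPts (i : ℕ) : List ℕ := (List.range 100).filter fun a => Nat.testBit (bSet.at i) a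

/-- The points of a subset. -/
noncomputable def cPts (i : ℕ) : List ℕ := (List.range 100).filter fun a => Nat.testBit (cSet.at i) a

theorem bInv : ∀ i < 352, actB.chkInv i = true := by decide +kernel

theorem cInv : ∀ i < 2200, actC.chkInv i = true := by decide +kernel

theorem bChk : ∀ i < 352, chkSubset HSOut.actA actB bSet bPts i = true := by decide +kernel

theorem cChk : ∀ i < 2200, chkSubset HSOut.actA actC cSet cPts i = true := by
  refine of_blocks (size := 275) (b := 8) (by decide) (by decide) fun j hj => ?_
  interval_cases j <;> decide +kernel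

theorem exists_homB : ∃ θ : H →* Equiv.Perm (Fin actB.N), actB.Hom g θ :=
  exists_subset_hom homA rfl g_gen g_out bInv bChk

theorem exists_homC : ∃ θ : H →* Equiv.Perm (Fin actC.N), actC.Hom g θ :=
  exists_subset_hom homA rfl g_gen g_out cInv cChk

end Cfsg.Agent.Spor.Cos.HSMult
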