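import Cfsg.Agent.Lib.Grp.SchurM.SignCover
import Cfsg.Agent.Lib.Spor.Cos.HSMult.SetData
import Cfsg.Agent.Lib.Spor.Cos.HSMult.SignData

/-! Checks of the shifts and marks. -/

set_option autoImplicit false
set_option maxRecDepth 100000
set_option maxHeartbeats 4000000

open Cfsg.Agent.Spor.Cos Cfsg.Agent.Grp.SchurM

namespace Cfsg.Agent.Spor.Cos.HSMult

/-- The tables. -/
def signT : SignTab where
  B := actB
  C := actC
  p := 2
  sgT := sgD
  edT := edD
  bits := 12
  paT := paD
  root := 0

theorem step0 : ∀ x < 88, signT.chkStep x = true := by decide +kernel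

theorem step1 : ∀ x < 88, signT.chkStep (88 + x) = true := by decide +kernel

theorem step2 : ∀ x < 88, signT.chkStep (176 + x) = true := by decide +kernel

theorem step3 : ∀ x < 88, signT.chkStep (264 + x) = true := by decide +kernel

theorem aparts : ∀ x < 352, signT.chkApart x = true := by decide +kernel

theorem preds : ∀ x < 352, signT.chkPred x = true := by decide +kernel

theorem ok : signT.Ok where
  prime := Nat.prime_two
  root_lt := by decide
  step x hx := by
    have hx : x < 352 := hx
    rcases Nat.lt_or_ge x 88 with h | h
    · exact step0 x h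
    rcases Nat.lt_or_ge x 176 with h' | h'
    · have := step1 (x - 88) (by omega); rwa [Nat.add_sub_cancel' h] at this
    rcases Nat.lt_or_ge x 264 with h'' | h''
    · have := step2 (x - 176) (by omega); rwa [Nat.add_sub_cancel' h'] at this
    · have := step3 (x - 264) (by omega); rwa [Nat.add_sub_cancel' h''] at this
  apart := aparts
  pred := preds

end Cfsg.Agent.Spor.Cos.HSMult
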