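import Cfsg.Agent.Lib.Grp.SchurM.TailTableOne
import Cfsg.Agent.Lib.Spor.Cos.HSOut.Rep

/-! A Sylow 2-subgroup of a group on 100 points with equations for the tails. -/

set_option autoImplicit false
set_option maxRecDepth 100000
set_option maxHeartbeats 8000000

open Cfsg.Agent.Grp.SchurM.Tails

open Cfsg.Agent.Spor.Cos.HSOut

namespace Cfsg.Agent.Spor.Cos.HSMult

/-- Presentation of the Sylow 2-subgroup. -/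
def pc2 : PC where
  p := 2
  n := 9
  rhs := [[3],
    [0, 1, 4],
    [],
    [0, 2, 5],
    [1, 2, 3, 4, 5, 6],
    [],
    [0, 3],
    [1, 3],
    [2, 3, 6],
    [7, 8],
    [0, 4, 7, 8],
    [1, 4, 7, 8],
    [2, 4, 6, 8],
    [3, 4],
    [7, 8],
    [0, 5, 6, 8],
    [1, 5],
    [2, 5],
    [3, 5, 7, 8],
    [4, 5, 7],
    [],
    [0, 6, 7],
    [1, 6, 7],
    [2, 6, 8],
    [3, 6],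
    [4, 6],
    [5, 6, 8],
    [8],
    [0, 7],
    [1, 7],
    [2, 7, 8],
    [3, 7],
    [4, 7],
    [5, 7],
    [6, 7],
    [],
    [0, 8],
    [1, 8],
    [2, 8],
    [3, 8],
    [4, 8],
    [5, 8],
    [6, 8],
    [7, 8],
    []]
  defs := [(3, 0, 0), (4, 1, 0), (5, 2, 0), (6, 3, 2), (7, 6, 0), (8, 7, 2)]

/-- Elements of the Sylow 2-subgroup. -/
def els2 : List (List ℕ) :=
   [[1, 3, 5, 7, 8],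
    [3, 4, 5, 7],
    [5, 8],
    [1, 4, 5, 7, 8],
    [1, 3, 5],
    [1, 4, 5],
    [5, 7],
    [3, 4, 5, 8],
    [3, 6, 7],
    [1, 3, 4, 6],
    [4, 6, 7, 8],
    [1, 6, 7],
    [4, 6],
    [3, 6, 8],
    [1, 6, 8],
    [1, 3, 4, 6, 7, 8],
    [1, 3, 5, 8],
    [1, 4, 5, 8],
    [3, 4, 5],
    [5, 7, 8],
    [1, 4, 5, 7],
    [1, 3, 5, 7],
    [3, 4, 5, 7, 8],
    [5],
    [1, 6],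
    [1, 3, 4, 6, 7],
    [3, 6],
    [4, 6, 8],
    [3, 6, 7, 8],
    [4, 6, 7],
    [1, 6, 7, 8],
    [1, 3, 4, 6, 8],
    [0, 2, 3, 4, 6],
    [0, 1, 2, 3, 5, 7, 8],
    [0, 2, 3, 4, 6, 7, 8],
    [0, 1, 2, 3, 5],
    [0, 1, 2, 4, 5, 7, 8],
    [0, 2, 6, 7],
    [0, 2, 6, 8],
    [0, 1, 2, 4, 5],
    [0, 1, 2, 4, 5, 7],
    [0, 2, 6],
    [0, 2, 6, 7, 8],
    [0, 1, 2, 4, 5, 8],
    [0, 2, 3, 4, 6, 8],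
    [0, 2, 3, 4, 6, 7],
    [0, 1, 2, 3, 5, 8],
    [0, 1, 2, 3, 5, 7],
    [0, 2, 3, 5, 7, 8],
    [0, 1, 2, 3, 4, 6],
    [0, 1, 2, 3, 4, 6, 7, 8],
    [0, 2, 3, 5],
    [0, 2, 4, 5, 7, 8],
    [0, 1, 2, 6, 7],
    [0, 2, 4, 5],
    [0, 1, 2, 6, 8],
    [0, 2, 4, 5, 8],
    [0, 2, 4, 5, 7],
    [0, 1, 2, 6, 7, 8],
    [0, 1, 2, 6],
    [0, 1, 2, 3, 4, 6, 7],
    [0, 2, 3, 5, 8],
    [0, 2, 3, 5, 7],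
    [0, 1, 2, 3, 4, 6, 8],
    [1, 4],
    [],
    [3, 4, 7],
    [1, 3, 8],
    [3, 4, 8],
    [7, 8],
    [1, 3, 7],
    [1, 4, 7, 8],
    [1, 5, 6, 7, 8],
    [4, 5, 6],
    [1, 3, 4, 5, 6],
    [3, 5, 6],
    [1, 3, 4, 5, 6, 7, 8],
    [1, 5, 6],
    [3, 5, 6, 7, 8],
    [4, 5, 6, 7, 8],
    [3, 5, 6, 7],
    [4, 5, 6, 7],
    [1, 3, 4, 5, 6, 7],
    [1, 5, 6, 8],
    [1, 3, 4, 5, 6, 8],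
    [1, 5, 6, 7],
    [3, 5, 6, 8],
    [4, 5, 6, 8],
    [7],
    [3, 4],
    [1, 4, 7],
    [1, 3, 7, 8],
    [8],
    [3, 4, 7, 8],
    [1, 4, 8],
    [1, 3],
    [0, 1, 2, 5, 7, 8],
    [0, 2, 4, 6],
    [0, 1, 2, 5],
    [0, 2, 4, 6, 7, 8],
    [0, 2, 3, 6, 7],
    [0, 1, 2, 3, 4, 5, 7, 8],
    [0, 1, 2, 3, 4, 5],
    [0, 2, 3, 6, 8],
    [0, 2, 3, 6, 7, 8],
    [0, 1, 2, 3, 4, 5, 8],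
    [0, 1, 2, 3, 4, 5, 7],
    [0, 2, 3, 6],
    [0, 1, 2, 5, 7],
    [0, 1, 2, 5, 8],
    [0, 2, 4, 6, 7],
    [0, 2, 4, 6, 8],
    [0, 1, 2, 4, 6],
    [0, 2, 5, 7, 8],
    [0, 2, 5],
    [0, 1, 2, 4, 6, 7, 8],
    [0, 1, 2, 3, 6, 7],
    [0, 2, 3, 4, 5, 7, 8],
    [0, 1, 2, 3, 6, 8],
    [0, 2, 3, 4, 5],
    [0, 1, 2, 3, 6],
    [0, 1, 2, 3, 6, 7, 8],
    [0, 2, 3, 4, 5, 7],
    [0, 2, 3, 4, 5, 8],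
    [0, 2, 5, 8],
    [0, 1, 2, 4, 6, 7],
    [0, 1, 2, 4, 6, 8],
    [0, 2, 5, 7],
    [2, 5],
    [1, 2, 4, 6, 7, 8],
    [2, 5, 7, 8],
    [1, 2, 4, 6],
    [1, 2, 3, 6, 8],
    [1, 2, 3, 6, 7],
    [2, 3, 4, 5, 7, 8],
    [2, 3, 4, 5],
    [0, 1, 3, 4],
    [0, 3, 7, 8],
    [0, 1, 7],
    [0, 1, 3, 4, 7, 8],
    [0, 1, 8],
    [0, 4, 7],
    [0, 4, 8],
    [0, 3],
    [1, 2, 3, 6],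
    [1, 2, 3, 6, 7, 8],
    [2, 3, 4, 5, 8],
    [2, 3, 4, 5, 7],
    [2, 5, 8],
    [1, 2, 4, 6, 7],
    [2, 5, 7],
    [1, 2, 4, 6, 8],
    [0, 1],
    [0, 3, 8],
    [0, 1, 3, 4, 8],
    [0, 1, 3, 4, 7],
    [0, 1, 7, 8],
    [0, 4],
    [0, 4, 7, 8],
    [0, 3, 7],
    [0, 5, 6, 7, 8],
    [0, 3, 4, 5, 6],
    [0, 5, 6],
    [0, 3, 4, 5, 6, 7, 8],
    [0, 1, 3, 5, 6],
    [0, 1, 4, 5, 6],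
    [0, 1, 4, 5, 6, 7, 8],
    [0, 1, 3, 5, 6, 7, 8],
    [0, 5, 6, 8],
    [0, 3, 4, 5, 6, 8],
    [0, 5, 6, 7],
    [0, 3, 4, 5, 6, 7],
    [0, 1, 3, 5, 6, 7],
    [0, 1, 4, 5, 6, 7],
    [0, 1, 4, 5, 6, 8],
    [0, 1, 3, 5, 6, 8],
    [1, 2, 3, 4, 5],
    [1, 2, 5],
    [1, 2, 5, 7, 8],
    [1, 2, 3, 4, 5, 7, 8],
    [2, 3, 6, 8],
    [2, 3, 6, 7],
    [2, 4, 6, 7, 8],
    [2, 4, 6],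
    [1, 2, 5, 8],
    [1, 2, 5, 7],
    [1, 2, 3, 4, 5, 8],
    [1, 2, 3, 4, 5, 7],
    [2, 4, 6, 7],
    [2, 3, 6],
    [2, 4, 6, 8],
    [2, 3, 6, 7, 8],
    [1, 2, 3, 4, 6, 7, 8],
    [2, 3, 5],
    [1, 2, 3, 4, 6],
    [2, 3, 5, 7, 8],
    [2, 4, 5],
    [2, 4, 5, 7, 8],
    [1, 2, 6, 7],
    [1, 2, 6, 8],
    [0, 1, 5, 8],
    [0, 4, 5],
    [0, 4, 5, 7, 8],
    [0, 3, 5, 7, 8],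
    [0, 3, 5],
    [0, 1, 3, 4, 5, 7],
    [0, 1, 3, 4, 5, 8],
    [0, 1, 5, 7],
    [0, 3, 5, 8],
    [0, 1, 5, 7, 8],
    [0, 4, 5, 8],
    [0, 4, 5, 7],
    [0, 3, 5, 7],
    [0, 1, 3, 4, 5],
    [0, 1, 3, 4, 5, 7, 8],
    [0, 1, 5],
    [2, 4, 5, 8],
    [2, 4, 5, 7],
    [1, 2, 6],
    [1, 2, 6, 7, 8],
    [1, 2, 3, 4, 6, 7],
    [2, 3, 5, 8],
    [1, 2, 3, 4, 6, 8],
    [2, 3, 5, 7],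
    [0, 1, 3, 6, 7],
    [0, 1, 4, 6],
    [0, 1, 3, 6, 8],
    [0, 1, 4, 6, 7, 8],
    [0, 6, 7],
    [0, 3, 4, 6],
    [0, 3, 4, 6, 7, 8],
    [0, 6, 8],
    [0, 1, 3, 6],
    [0, 1, 4, 6, 8],
    [0, 1, 4, 6, 7],
    [0, 1, 3, 6, 7, 8],
    [0, 6],
    [0, 3, 4, 6, 7],
    [0, 3, 4, 6, 8],
    [0, 6, 7, 8],
    [2, 6, 8],
    [2, 3, 4, 6, 7, 8],
    [2, 3, 4, 6],
    [2, 6, 7],
    [1, 2, 4, 5],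
    [1, 2, 4, 5, 7, 8],
    [1, 2, 3, 5],
    [1, 2, 3, 5, 7, 8],
    [2, 3, 4, 6, 7],
    [2, 3, 4, 6, 8],
    [2, 6],
    [2, 6, 7, 8],
    [1, 2, 3, 5, 8],
    [1, 2, 4, 5, 8],
    [1, 2, 3, 5, 7],
    [1, 2, 4, 5, 7],
    [2, 3, 8],
    [1, 2, 3, 4, 5, 6],
    [2, 3, 7],
    [1, 2, 3, 4, 5, 6, 7, 8],
    [1, 2, 5, 6],
    [1, 2, 5, 6, 7, 8],
    [2, 4],
    [2, 4, 7, 8],
    [0, 5, 7, 8],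
    [0, 1, 4, 5, 8],
    [0, 1, 4, 5, 7],
    [0, 1, 3, 5, 8],
    [0, 1, 3, 5, 7],
    [0, 3, 4, 5, 7, 8],
    [0, 3, 4, 5],
    [0, 5],
    [1, 2, 5, 6, 8],
    [1, 2, 5, 6, 7],
    [2, 4, 7],
    [2, 4, 8],
    [2, 3],
    [1, 2, 3, 4, 5, 6, 8],
    [2, 3, 7, 8],
    [1, 2, 3, 4, 5, 6, 7],
    [0, 1, 3, 5, 7, 8],
    [0, 5, 8],
    [0, 1, 4, 5],
    [0, 1, 4, 5, 7, 8],
    [0, 1, 3, 5],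
    [0, 3, 4, 5, 8],
    [0, 3, 4, 5, 7],
    [0, 5, 7],
    [0, 3, 6, 7],
    [0, 4, 6, 7, 8],
    [0, 3, 6, 8],
    [0, 4, 6],
    [0, 1, 6, 7],
    [0, 1, 3, 4, 6, 7, 8],
    [0, 1, 3, 4, 6],
    [0, 1, 6, 8],
    [0, 3, 6],
    [0, 4, 6, 7],
    [0, 4, 6, 8],
    [0, 3, 6, 7, 8],
    [0, 1, 6],
    [0, 1, 3, 4, 6, 8],
    [0, 1, 3, 4, 6, 7],
    [0, 1, 6, 7, 8],
    [1, 2, 4, 7],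
    [1, 2, 3],
    [1, 2, 4, 8],
    [1, 2, 3, 7, 8],
    [2, 5, 6, 8],
    [2, 5, 6, 7],
    [2, 3, 4, 5, 6, 8],
    [2, 3, 4, 5, 6, 7],
    [1, 2, 3, 8],
    [1, 2, 3, 7],
    [1, 2, 4, 7, 8],
    [1, 2, 4],
    [2, 3, 4, 5, 6],
    [2, 5, 6],
    [2, 5, 6, 7, 8],
    [2, 3, 4, 5, 6, 7, 8],
    [1, 2, 4, 5, 6, 7, 8],
    [2, 7],
    [1, 2, 4, 5, 6],
    [2, 8],
    [2, 3, 4],
    [2, 3, 4, 7, 8],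
    [1, 2, 3, 5, 6],
    [1, 2, 3, 5, 6, 7, 8],
    [2, 3, 4, 8],
    [2, 3, 4, 7],
    [1, 2, 3, 5, 6, 7],
    [1, 2, 3, 5, 6, 8],
    [1, 2, 4, 5, 6, 7],
    [2, 7, 8],
    [1, 2, 4, 5, 6, 8],
    [2],
    [0, 3, 4, 8],
    [0, 1, 3, 8],
    [0],
    [0, 3, 4, 7],
    [0, 7, 8],
    [0, 1, 4, 7, 8],
    [0, 1, 4],
    [0, 1, 3, 7],
    [0, 7],
    [0, 1, 3, 7, 8],
    [0, 3, 4],
    [0, 3, 4, 7, 8],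
    [0, 8],
    [0, 1, 4, 8],
    [0, 1, 4, 7],
    [0, 1, 3],
    [0, 1, 5, 6, 7, 8],
    [0, 1, 3, 4, 5, 6, 7, 8],
    [0, 1, 5, 6],
    [0, 1, 3, 4, 5, 6],
    [0, 3, 5, 6],
    [0, 4, 5, 6, 7, 8],
    [0, 4, 5, 6],
    [0, 3, 5, 6, 7, 8],
    [0, 1, 5, 6, 8],
    [0, 1, 3, 4, 5, 6, 7],
    [0, 1, 5, 6, 7],
    [0, 1, 3, 4, 5, 6, 8],
    [0, 3, 5, 6, 7],
    [0, 4, 5, 6, 8],
    [0, 4, 5, 6, 7],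
    [0, 3, 5, 6, 8],
    [2, 3, 5, 6, 7],
    [2, 4, 5, 6, 7],
    [2, 3, 5, 6, 8],
    [2, 4, 5, 6, 8],
    [1, 2, 3, 4, 8],
    [1, 2, 3, 4, 7],
    [1, 2, 7, 8],
    [1, 2],
    [2, 4, 5, 6, 7, 8],
    [2, 4, 5, 6],
    [2, 3, 5, 6, 7, 8],
    [2, 3, 5, 6],
    [1, 2, 7],
    [1, 2, 3, 4],
    [1, 2, 3, 4, 7, 8],
    [1, 2, 8],
    [0, 2, 4, 5, 6],
    [0, 2, 4, 5, 6, 7, 8],
    [0, 1, 2, 3, 4, 7, 8],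
    [0, 1, 2, 7],
    [0, 2, 3, 5, 6],
    [0, 1, 2, 8],
    [0, 2, 3, 5, 6, 7, 8],
    [0, 1, 2, 3, 4],
    [0, 1, 2, 4, 5, 6, 7, 8],
    [0, 2, 3, 4, 7, 8],
    [0, 2, 7],
    [0, 2, 8],
    [0, 1, 2, 3, 5, 6],
    [0, 1, 2, 4, 5, 6],
    [0, 2, 3, 4],
    [0, 1, 2, 3, 5, 6, 7, 8],
    [0, 1, 2, 3, 4, 7],
    [0, 2, 4, 5, 6, 8],
    [0, 2, 3, 5, 6, 7],
    [0, 2, 3, 5, 6, 8],
    [0, 1, 2, 3, 4, 8],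
    [0, 1, 2],
    [0, 2, 4, 5, 6, 7],
    [0, 1, 2, 7, 8],
    [0, 2, 3, 4, 8],
    [0, 2, 3, 4, 7],
    [0, 1, 2, 3, 5, 6, 8],
    [0, 2],
    [0, 1, 2, 4, 5, 6, 8],
    [0, 1, 2, 3, 5, 6, 7],
    [0, 1, 2, 4, 5, 6, 7],
    [0, 2, 7, 8],
    [4, 8],
    [1, 7],
    [1, 3, 4, 7, 8],
    [3, 7, 8],
    [1, 3, 4],
    [1, 8],
    [3],
    [4, 7],
    [5, 6, 7, 8],
    [1, 4, 5, 6, 7, 8],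
    [3, 4, 5, 6, 7, 8],
    [1, 3, 5, 6],
    [3, 4, 5, 6],
    [5, 6],
    [1, 3, 5, 6, 7, 8],
    [1, 4, 5, 6],
    [1, 3, 5, 6, 7],
    [1, 4, 5, 6, 8],
    [3, 4, 5, 6, 8],
    [5, 6, 8],
    [3, 4, 5, 6, 7],
    [5, 6, 7],
    [1, 3, 5, 6, 8],
    [1, 4, 5, 6, 7],
    [1],
    [1, 3, 4, 8],
    [4, 7, 8],
    [3, 8],
    [1, 7, 8],
    [1, 3, 4, 7],
    [4],
    [3, 7],
    [0, 1, 2, 3, 7],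
    [0, 1, 2, 3, 8],
    [0, 2, 5, 6, 7, 8],
    [0, 2, 3, 4, 5, 6],
    [0, 1, 2, 4],
    [0, 2, 3, 4, 5, 6, 7, 8],
    [0, 1, 2, 4, 7, 8],
    [0, 2, 5, 6],
    [0, 2, 3, 8],
    [0, 1, 2, 5, 6, 7, 8],
    [0, 1, 2, 3, 4, 5, 6],
    [0, 1, 2, 3, 4, 5, 6, 7, 8],
    [0, 2, 4],
    [0, 2, 3, 7],
    [0, 1, 2, 5, 6],
    [0, 2, 4, 7, 8],
    [3, 5, 8],
    [1, 3, 4, 5, 7, 8],
    [1, 5, 7, 8],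
    [4, 5, 7],
    [3, 5, 7],
    [4, 5, 8],
    [1, 5],
    [1, 3, 4, 5],
    [0, 2, 5, 6, 7],
    [0, 1, 2, 3, 7, 8],
    [0, 1, 2, 4, 7],
    [0, 1, 2, 4, 8],
    [0, 2, 5, 6, 8],
    [0, 2, 3, 4, 5, 6, 7],
    [0, 1, 2, 3],
    [0, 2, 3, 4, 5, 6, 8],
    [1, 3, 6, 7],
    [3, 4, 6, 7, 8],
    [1, 4, 6],
    [6, 7],
    [1, 4, 6, 7, 8],
    [1, 3, 6, 8],
    [6, 8],
    [3, 4, 6],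
    [3, 5, 7, 8],
    [4, 5],
    [1, 3, 4, 5, 8],
    [1, 5, 8],
    [4, 5, 7, 8],
    [3, 5],
    [1, 3, 4, 5, 7],
    [1, 5, 7],
    [0, 1, 2, 5, 6, 8],
    [0, 1, 2, 5, 6, 7],
    [0, 2, 4, 8],
    [0, 1, 2, 3, 4, 5, 6, 7],
    [0, 2, 3, 7, 8],
    [0, 2, 4, 7],
    [0, 2, 3],
    [0, 1, 2, 3, 4, 5, 6, 8],
    [6],
    [3, 4, 6, 8],
    [1, 3, 6],
    [1, 4, 6, 7],
    [1, 3, 6, 7, 8],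
    [1, 4, 6, 8],
    [6, 7, 8],
    [3, 4, 6, 7]]

/-- Conjugation data. -/
def conj2 : List Conj :=
   [(0, [0, 1, 2, 4, 7], [4, 5, 6, 8]),
    (0, [0, 1, 2, 3, 6], [0, 1, 2, 4, 7]),
    (0, [7], [0, 1, 2, 3, 4, 5, 7]),
    (0, [0, 1, 2, 3, 4, 5], [0, 1, 2, 4, 6, 7]),
    (0, [0, 1, 2, 5], [7, 8]),
    (1, [0, 1, 5, 7], [0, 1, 2, 4, 5, 8]),
    (1, [3, 4, 5, 8], [2, 3, 4, 5, 8]),
    (1, [2, 3, 4, 5, 7, 8], [2, 6, 8]),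
    (1, [0, 1, 4, 7], [4]),
    (2, [1, 3, 5, 7], [1, 3, 5, 7, 8]),
    (2, [3, 5, 7, 8], [3, 5, 7, 8]),
    (2, [1, 3, 5, 8], [8]),
    (2, [3, 6, 7, 8], [3, 6, 7, 8])]

/-- Equations between tails. -/
def cert2 : Cert where
  eqns := [.cons [2, 1, 0] 0 1,
    .cons [3, 1, 0] 0 1,
    .cons [3, 2, 0] 0 1,
    .cons [3, 2, 1] 0 1,
    .cons [4, 1, 0] 0 1,
    .cons [4, 2, 0] 0 1,
    .cons [4, 2, 1] 0 1,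
    .cons [4, 3, 0] 0 1,
    .cons [4, 3, 2] 0 1,
    .cons [5, 1, 0] 0 1,
    .cons [5, 2, 0] 0 1,
    .cons [5, 2, 1] 0 1,
    .cons [5, 3, 0] 0 1,
    .cons [5, 3, 1] 0 1,
    .cons [5, 3, 2] 0 1,
    .cons [5, 4, 0] 0 1,
    .cons [5, 4, 1] 0 1,
    .cons [5, 4, 2] 0 1,
    .cons [5, 4, 3] 0 1,
    .cons [6, 1, 0] 0 1,
    .cons [6, 2, 1] 0 1,
    .cons [6, 4, 0] 0 1,
    .cons [6, 5, 0] 0 1,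
    .cons [6, 5, 2] 0 1,
    .cons [0, 0, 0] 0 1,
    .cons [1, 1, 0] 0 1,
    .cons [1, 0, 0] 0 1,
    .cons [2, 2, 0] 0 1,
    .cons [2, 0, 0] 0 1,
    .cons [2, 2, 1] 0 1,
    .cons [2, 1, 1] 0 1,
    .cons [3, 2, 2] 0 1,
    .fus [0, 1, 2, 3, 4] [1, 1] [0, 0],
    .fus [0, 1, 2, 3, 4] [2, 2] [],
    .fus [0, 1, 2, 3, 4] [3, 0] [0, 3],
    .fus [5, 6, 7, 8] [0, 0, 0, 0] [1, 1],
    .fus [9, 10, 11, 12] [2, 2] [],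
    .fus [9, 10, 11, 12] [3, 2] [2, 3]]
  free := 17
  combo := [[],
    [],
    [0, 1, 5, 6, 9, 10, 11, 12, 13, 14, 17, 18, 19, 24, 26, 27, 28, 29, 36],
    [],
    [0, 3, 4, 7, 9, 10, 14, 15, 21, 23, 26, 28, 29, 30, 32, 35, 36],
    [3, 6, 7, 12, 13, 14, 15, 16, 17, 18, 20, 23, 27, 29, 31, 35],
    [24],
    [1, 2, 3, 5, 7, 8, 11, 12, 14, 15, 16, 17, 20, 37],
    [],
    [1, 5, 13, 16, 18, 20, 23, 24, 25, 28, 30, 31, 32, 33, 34],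
    [0, 1, 3, 5, 7, 13, 14, 19, 20, 21, 22, 24, 25, 26, 32, 33, 37],
    [0, 2, 7, 11, 12, 14, 16, 17, 20, 21, 22, 23, 24, 32, 33],
    [3, 5, 8, 10, 11, 12, 15, 18, 19, 20, 22, 24, 25, 26, 34],
    [1],
    [2, 3, 4, 5, 11, 12, 15, 21, 22, 23, 26, 27, 28, 29, 30, 31, 32, 33],
    [0, 2, 3, 4, 7, 8, 10, 11, 12, 15, 19, 20, 23, 24, 25, 26, 29, 30],
    [0, 1, 2, 7, 9, 10, 12, 13, 14, 16, 17, 19, 20, 25, 26, 29, 30, 31, 32, 33, 34, 37],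
    [],
    [0, 4, 6, 18, 19, 22, 23, 24, 25, 26, 27, 28, 29, 30, 31],
    [2, 8, 11, 12, 15, 21, 22],
    [27],
    [],
    [1, 2, 3, 4, 8, 12, 13],
    [2, 3, 5, 6, 7, 8, 10, 12, 16, 18, 19, 20, 21, 23],
    [4, 7, 12, 13, 14, 15, 16, 17, 18, 19, 21, 23],
    [4, 7, 12, 14, 16, 20, 21, 23],
    [0, 2, 3, 4, 7, 8, 11, 12, 15, 19, 20, 24, 25, 26, 27, 28, 29, 30, 31],
    [0, 2, 3, 4, 7, 10, 11, 15, 16, 20, 22, 23, 24, 25, 26, 27, 28, 29, 30],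
    [1, 4, 6, 9, 12, 13, 15, 17, 18, 21, 23],
    [1, 6, 7, 9, 13, 14, 15, 16, 17, 18, 19, 20],
    [],
    [2, 3, 5, 6, 7, 8, 12, 15, 17, 20],
    [2, 3, 5, 6, 7, 8, 12, 14, 16, 18, 19, 20, 23],
    [1, 2, 3, 5, 7, 8, 9, 15, 16, 19, 20, 22, 23],
    [2, 3, 5, 6, 7, 8, 12, 16, 17, 18, 19, 20, 21],
    [2, 5, 11, 14, 15, 16, 19, 21, 22],
    [1, 6, 9, 12, 15, 17, 18, 21, 23],
    [1, 6, 7, 9, 14, 15, 16, 17, 18, 19, 20],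
    [8, 12, 16, 19, 22, 23],
    [2, 3, 5, 6, 8, 12, 15, 17, 20],
    [2, 3, 5, 6, 12, 13, 15, 16, 18],
    [8, 12, 16, 19, 22],
    [2, 3, 5, 6, 12, 13, 18, 19],
    [2, 3, 5, 6, 12, 13, 14, 17, 18, 19, 23],
    [0, 4, 5, 6, 8, 11, 12, 15, 18, 19, 21, 22, 24, 25, 26, 27, 28, 29, 30, 31]]

/-- The certificate. -/
def tab2 : TableCert where
  P := pc2
  ews := [[1, 2, 0, 1, 0, 1, 2, 1, 0, 1, 2, 0, 1, 2, 0, 1, 0, 1, 2, 0, 1, 0, 1, 2, 0, 1, 2, 0, 1, 0, 1, 2, 1, 0, 1, 2, 0, 1, 2, 0, 1, 2, 1, 0],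
    [2, 1, 2, 0, 1, 2, 1, 2, 1, 0, 1, 0, 1, 2, 0, 1, 0, 1, 2, 1, 0, 1, 0, 1, 2, 1, 2, 1, 0, 1, 2, 0, 1, 0, 1, 2, 1, 0, 1, 2, 0, 1, 2, 1, 2, 1, 0],
    [1, 0, 1, 0, 1, 2, 0, 1, 0, 1, 2, 1, 0, 1, 2, 0, 1, 0, 1, 2, 0, 1, 0, 1, 2, 1, 2, 1, 2, 0, 1, 2, 1, 2, 1, 0, 1, 2, 0, 1, 0, 1, 2, 1, 0, 1, 0],
    [2, 1, 2, 1, 2, 1, 2, 1, 0, 1, 0, 1, 2, 1, 2, 0, 1, 0, 1, 2, 1, 0, 1, 0],
    [1, 2, 1, 0, 1, 0, 1, 2, 1, 2],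
    [1, 2, 0, 1, 2, 0, 1, 0, 1, 0, 2, 1, 2, 1, 2, 0, 1, 0, 1, 2, 0, 1, 0, 1, 2, 0, 1, 0, 1, 2, 1, 0, 1, 2, 1, 0, 1, 0, 1, 2],
    [2, 0, 1, 0, 1, 2, 1, 2, 0, 1, 0, 1, 2, 1],
    [2, 1, 2, 1, 2, 1, 2, 1, 0, 1, 0, 1, 2, 1, 2, 1, 2, 1, 0, 1, 2, 0],
    [2, 1, 2, 1, 2, 0, 1, 0, 1, 2, 1, 0, 1, 2, 0, 1, 2, 1, 2, 0, 1, 0, 1, 2, 1, 0, 1, 0]]
  gws := [[0, 1, 2, 1, 2, 0, 1, 0, 1, 2, 0, 1, 2, 1, 2, 1, 0, 1, 0, 1, 2, 1, 2, 1, 2, 0, 1, 2, 1, 2, 1, 0, 1, 0, 1, 2, 1, 2, 1, 2, 0, 1, 0, 1],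
    [1, 0, 1, 2, 0, 1, 2, 0, 1, 2, 1, 2, 1, 0, 1, 0, 1, 2, 1, 2, 1, 0, 1, 2, 0, 1, 0, 1, 2, 0, 1, 0, 1, 0, 1, 2, 0, 1, 2, 1, 2, 0, 1, 0, 1],
    [0, 1, 2, 0, 1, 2, 0, 1, 0, 1, 2, 0, 1, 2, 1, 2, 0, 1, 0, 1, 2, 0, 1, 2, 1, 2, 0, 1, 0, 1, 0, 1, 2, 0, 1, 2, 1, 2, 1, 0, 1, 2, 1]]
  C := conj2
  K := cert2
  els := els2

theorem tab2_rel : tab2.chkRel HSOut.actA [0, 86, 42, 27, 30, 47] = true := by decide +kernel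

theorem tab2_card : tab2.chkCard HSOut.actA [0, 86, 42, 27, 30, 47] = true := by decide +kernel

theorem tab2_tails : tab2.K.check tab2.P tab2.C = true := by decide +kernel

theorem sylow2 : Nonempty (SylowOne H 2) :=
  TableCert.sylowOne homA (by decide +kernel) det card_H rfl (by decide) tab2_rel tab2_card tab2_tails
    (j := 5) (i := 2) (by decide +kernel) rfl rfl rfl (by decide +kernel)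

end Cfsg.Agent.Spor.Cos.HSMult
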