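import Cfsg.Agent.Lib.Grp.SchurM.TailTable
import Cfsg.Agent.Lib.Spor.Cos.HSOut.Rep

/-! A Sylow 3-subgroup of a group on 100 points with equations for the tails. -/

set_option autoImplicit false
set_option maxRecDepth 100000
set_option maxHeartbeats 8000000

open Cfsg.Agent.Grp.SchurM.Tails

open Cfsg.Agent.Spor.Cos.HSOut

namespace Cfsg.Agent.Spor.Cos.HSMult

/-- Presentation of the Sylow 3-subgroup. -/
def pc3 : PC where
  p := 3
  n := 2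
  rhs := [[],
    [0, 1],
    []]
  defs := []

/-- Elements of the Sylow 3-subgroup. -/
def els3 : List (List ℕ) :=
   [[0, 0],
    [0, 1],
    [1, 1],
    [0, 1, 1],
    [],
    [0, 0, 1],
    [1],
    [0, 0, 1, 1],
    [0]]

/-- Conjugation data. -/
def conj3 : List Conj :=
   [(0, [0, 1, 1], [0, 0, 1, 1]),
    (0, [0, 1], [0, 0, 1]),
    (1, [1, 1], [1])]

/-- Equations between tails. -/
def cert3 : Cert where
  eqns := [.fus [0, 1] [1, 0] [0, 1],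
    .fus [0, 1] [0, 0, 0] [],
    .fus [2] [0, 0, 0] []]
  free := 3
  combo := [[1, 1],
    [0],
    [2]]

/-- The certificate. -/
def tab3 : TableCert where
  P := pc3
  ews := [[0, 1, 2, 1, 2, 1, 0, 1, 2, 0, 1, 2, 1, 2, 0, 1, 0, 1, 2, 0, 1, 0, 1, 2, 0, 1, 0, 1, 2, 1, 2, 0, 1, 0, 1, 0, 1, 0],
    [0, 1, 2, 0, 1, 0, 1, 0, 2, 1, 2, 1, 0, 1, 2, 0, 1, 2, 0, 1, 0, 1, 2, 0, 1, 0, 1, 2, 1, 0, 1, 2, 0, 1, 2, 1, 2, 1, 0]]
  gws := [[0, 1, 0, 1, 2, 1, 0, 1, 2, 0, 1, 2, 0, 1, 0, 1, 2, 1, 0, 1, 2, 1, 0, 1, 2, 0, 1, 0, 1, 2, 1, 0, 1, 2, 1, 0, 1, 2, 0, 1, 2, 0, 1, 0],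
    [0, 1, 0, 1, 2, 0, 1, 0, 1, 2, 0, 1, 0, 1, 2, 1, 2, 1, 2, 0, 1, 0, 1, 2, 1, 2, 1, 0, 1, 0, 1, 2, 0, 1, 0, 1, 2, 0, 1, 0, 1, 0, 1, 2, 1, 0]]
  C := conj3
  K := cert3
  els := els3

theorem tab3_rel : tab3.chkRel HSOut.actA [0, 86, 42, 27, 30, 47] = true := by decide +kernel

theorem tab3_card : tab3.chkCard HSOut.actA [0, 86, 42, 27, 30, 47] = true := by decide +kernel

theorem tab3_tails : tab3.K.check tab3.P tab3.C = true := by decide +kernel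

theorem sylow3 : Nonempty (SylowCert H 3) :=
  TableCert.sylowCert homA (by decide +kernel) det card_H rfl (by decide) tab3_rel tab3_card tab3_tails
    (le_of_eq rfl) (by decide +kernel)

end Cfsg.Agent.Spor.Cos.HSMult
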