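import Cfsg.Agent.Lib.Spor.Cos.HSMult.Tail2
import Cfsg.Agent.Lib.Spor.Cos.HSMult.Tail3
import Cfsg.Agent.Lib.Spor.Cos.HSMult.Tail5
import Cfsg.Agent.Lib.Spor.Cos.HSMult.Tail7
import Cfsg.Agent.Lib.Spor.Cos.HSMult.Tail11
import Cfsg.Agent.Lib.Spor.Cos.HSMult.Sets
import Cfsg.Agent.Lib.Spor.Cos.HSMult.Sign
import Cfsg.Agent.Lib.Spor.Cos.HSOut.Iso
import Cfsg.Agent.Lib.Grp.SchurM.SylowBounds
import Cfsg.Agent.Lib.Spor.Cos.Sift

/-! The multiplier of a group on 100 points is cyclic of order two. -/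

set_option autoImplicit false
set_option maxRecDepth 100000
set_option maxHeartbeats 4000000

open Cfsg Cfsg.Agent.Spor.Cos.HSOut Cfsg.Agent.Grp.SchurM Cfsg.Agent.Grp.SchurM.Tails

namespace Cfsg.Agent.Spor.Cos.HSMult

universe u

/-- Stem kernels are generated by an element of order dividing two. -/
theorem exists_gen {Δ : Type u} [Group Δ] [Finite Δ] (σ : Δ →* H) (hσ : Cfsg.IsStemExtension σ) :
    ∃ c ∈ σ.ker, c ^ 2 = 1 ∧ σ.ker ≤ Subgroup.zpowers c := by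
  obtain ⟨S⟩ := sylow2
  refine exists_gen_of_one Nat.prime_two S (fun q hq hne hd => ?_) σ hσ
  rw [card_H, show 44352000 = 2 ^ 9 * 3 ^ 2 * 5 ^ 3 * 7 * 11 by norm_num] at hd
  have key : ∀ r : ℕ, r.Prime → q ∣ r → q = r := fun r hr h => (Nat.prime_dvd_prime_iff_eq hq hr).1 h
  rcases (Nat.Prime.dvd_mul hq).1 hd with hd | h11
  · rcases (Nat.Prime.dvd_mul hq).1 hd with hd | h7
    · rcases (Nat.Prime.dvd_mul hq).1 hd with hd | h5
      · rcases (Nat.Prime.dvd_mul hq).1 hd with h2 | h3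
        · exact absurd (key 2 Nat.prime_two (hq.dvd_of_dvd_pow h2)) hne
        · obtain rfl := key 3 Nat.prime_three (hq.dvd_of_dvd_pow h3)
          exact sylow3
      · obtain rfl := key 5 (by norm_num) (hq.dvd_of_dvd_pow h5)
        exact sylow5
    · obtain rfl := key 7 (by norm_num) h7
      exact sylow7
  · obtain rfl := key 11 (by norm_num) h11
    exact sylow11

/-- A word of the first commuting pair. -/
def comU : List ℕ := [0, 2, 0, 2, 1, 2, 1, 1, 2]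

/-- A word of the second element of the pair. -/
def comW : List ℕ := [0, 2, 0, 2, 1, 2, 1, 1, 2, 2, 1, 0, 0, 2, 0, 2, 1, 2, 1, 1, 2, 0, 1, 2, 0, 2, 0, 2, 1, 2, 1, 1, 2, 2, 1, 0, 0, 2, 0, 2, 1, 2, 1, 1, 2, 0, 1, 2, 0, 2, 0, 2, 1, 2, 1, 1, 2, 2, 1, 0, 0, 2, 0, 2, 1, 2, 1, 1, 2, 0, 1, 2, 0, 2, 0, 2, 1, 2, 1, 1, 2, 2, 1, 0, 0, 2, 0, 2, 1, 2, 1, 1, 2, 0, 1, 2, 0, 2, 0, 2, 1, 2, 1, 1, 2, 2, 1, 0, 0, 2, 0, 2, 1, 2, 1, 1, 2, 0, 1, 2]

theorem comm_shift : signT.chkShift comU comW = true := by decide +kernel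

theorem comm_eq : ev g (comU ++ comW) = ev g (comW ++ comU) :=
  ev_eq_of_agree homA det (by decide +kernel) (by decide +kernel) (by decide +kernel)

theorem multiplier_H : Cfsg.HasCyclicSchurMultiplier ↥Cfsg.Spor.HS 2 := by
  obtain ⟨θB, hB⟩ := exists_homB
  obtain ⟨θC, hC⟩ := exists_homC
  exact ok.multiplier (G := H) hB hC rfl g_gen comm_shift comm_eq equivHS.symm fun Δ _ _ σ hσ => by
    obtain ⟨c, hc, hc2, hle⟩ := exists_gen σ hσ
    exact exists_surjective_zmod _ c hc hc2 hle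

end Cfsg.Agent.Spor.Cos.HSMult
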